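import Cfsg.Agent.H408.CY.E7Four
import Cfsg.Agent.H598.CY.Orb

/-!
# `E7(q)`, `q` of order `4` modulo `p` : the row of S4829 (helper408)
-/

set_option autoImplicit false
set_option linter.unusedSectionVars false

namespace Cfsg.Agent.H408.CY

open Cfsg Cfsg.Lie Cfsg.Agent.H770.CY Cfsg.Agent.Nodes.LeviDec Cfsg.Agent.Nodes.RGDChev Cfsg.Agent.H422.RatB
  Cfsg.Agent.H35.ExcIdx

/-- **The row of `E7(q)` for `q` of order `4` modulo `p`.** -/
theorem rowA_E7_four {p : ℕ} [hp : Fact p.Prime] (F : Type) [Field F] [Fintype F] (hp2 : p ≠ 2)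
    (hd : orderOf ((Fintype.card F : ℕ) : ZMod p) = 4) [Fintype ↥(chevE7.group F)] :
    RowA p ↥(chevE7.group F) := by
  obtain ⟨h1, h2⟩ := Cfsg.Agent.S1054.result (F := F) chevE7 (by simp)
  have hdd := dvd_of_ord_four hd
  let _ : MulAction (MulAut ↥(chevE7.group F)) (Cls (XX chevE7 7 F th7)) := clsAct (exists_cls F)
  have hact : ∀ (a : MulAut ↥(chevE7.group F)) (C : Cls (XX chevE7 7 F th7)), (a • C).1 = am a C.1 := fun _ _ => rfl
  have : Nonempty (Cls (XX chevE7 7 F th7)) := ⟨⟨XX chevE7 7 F th7, 1, (Cfsg.Agent.Nodes.Reps.cj_one _).symm⟩⟩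
  exact H598.CY.rowA_of_orb h2 (transitive_four hact) (orbital_four hact) (fun θ hθ => cyc_four hact θ hθ)
    (fun Y hY hi => cnt_four hp2 hdd hact Y hY hi)

end Cfsg.Agent.H408.CY
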