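import Cfsg.Agent.H422.RatB.Two
import Cfsg.Agent.H554.RG

/-!
# The conjugates of a long root group and the automorphism group (helper408, S4829)

`S` with the root group datum `R`, no symmetry of the diagram; `θ` a root with the property `LR`.

* `exists_frame` : for every automorphism `a` there is `s ∈ S` such that `s a(X z) s⁻¹ = X z` for all roots `z`;
* `Cls` : the conjugates of a subgroup, with the action `clsAct` of a group of automorphisms;
* `exists_orbital` : the automorphisms preserve the orbitals of `S` on the conjugates of `X θ`;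
* `not_conj_aut`, `cnt_ne_aut` : the number of the `C(P)`-orbits on the fixed points of `P`, for groups of automorphisms.
-/

set_option autoImplicit false
set_option linter.unusedSectionVars false

namespace Cfsg.Agent.H408.CY

open CoxeterSystem Cfsg.Agent.ChevalleyStructure.CoxeterGeom Cfsg.Agent.Tits.Roots Cfsg.Agent.Tits.Core
  Cfsg.Agent.Tits.RootComb Cfsg.Agent.Tits.Exchange Cfsg.Agent.Nodes.Comb Cfsg.Agent.Nodes.Reps
  Cfsg.Agent.Nodes.BNOf Cfsg.Agent.Nodes.StabComb Cfsg.Agent.Nodes.Bruhat Cfsg.Agent.Nodes.OppDec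
  Cfsg.Agent.Nodes.LeviDec Cfsg.Agent.Nodes.NormX Cfsg.Agent.Nodes.Coroot Cfsg.Agent.KFacts.RgdPar
  Cfsg.Agent.KFacts.RgdSL Cfsg.Agent.KFacts.RgdTI Cfsg.Agent.KFacts.RgdDiag Cfsg.Agent.H554.RG
  Cfsg.Agent.H422.RatB

universe u

section am

variable {S : Type u} [Group S]

/-- the image of a subgroup under an automorphism -/
def am (a : MulAut S) (H : Subgroup S) : Subgroup S := H.map (a : S ≃* S).toMonoidHom

theorem mem_am {a : MulAut S} {H : Subgroup S} {x : S} : x ∈ am a H ↔ a⁻¹ x ∈ H := by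
  constructor
  · rintro ⟨y, hy, rfl⟩
    have : (a⁻¹ : MulAut S) (a y) = y := MulAut.inv_apply_self _ _ _
    exact this.symm ▸ hy
  · intro hx
    exact ⟨a⁻¹ x, hx, MulAut.apply_inv_self _ _ _⟩

theorem am_mul (a b : MulAut S) (H : Subgroup S) : am (a * b) H = am a (am b H) := by
  ext x
  rw [mem_am, mem_am, mem_am, mul_inv_rev]
  rfl

theorem am_one (H : Subgroup S) : am (1 : MulAut S) H = H := by
  ext x
  rw [mem_am, inv_one]
  rfl

theorem am_conj (g : S) (H : Subgroup S) : am (MulAut.conj g) H = cj g H := rfl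

theorem am_cj (a : MulAut S) (g : S) (H : Subgroup S) : am a (cj g H) = cj (a g) (am a H) := by
  rw [← am_conj, ← am_conj, ← am_mul, ← am_mul]
  congr 1
  ext x
  show a (g * x * g⁻¹) = a g * a x * (a g)⁻¹
  rw [map_mul, map_mul, map_inv]

/-- the conjugates of a subgroup -/
abbrev Cls (H : Subgroup S) : Type u := {K : Subgroup S // ∃ g : S, K = cj g H}



/-- the action of the automorphisms on the conjugates -/
@[reducible] def clsAct {H : Subgroup S} (hH : ∀ a : MulAut S, ∃ g : S, am a H = cj g H) : MulAction (MulAut S) (Cls H) where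
  smul a K := ⟨am a K.1, by
    obtain ⟨g, hg⟩ := K.2
    obtain ⟨k, hk⟩ := hH a
    exact ⟨a g * k, by rw [hg, am_cj, hk, cj_mul]⟩⟩
  one_smul K := Subtype.ext (am_one _)
  mul_smul a b K := Subtype.ext (am_mul a b _)

end am

variable {I W : Type*} {S : Type u} [Fintype I] [DecidableEq I] [Group W] [Group S] {M : CoxeterMatrix I}
  {cs : CoxeterSystem M W} {A : I → I → ℤ} {h : IsCartan M A} {r : ℕ} {T : Subgroup S} {n : I → S}
  {X : (I → ℤ) → Subgroup S}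

variable (R : RGD cs h r T n X)

include R

variable [Finite W]

/-- **The frame.** -/
theorem exists_frame [Finite S] [Fact r.Prime] (hG : GG cs h T X = ⊤)
    (hM : ∀ σ : Equiv.Perm I, (∀ i j, M (σ i) (σ j) = M i j) → σ = 1) (a : MulAut S) :
    ∃ s : S, ∀ z, IsRoot cs h z → am (MulAut.conj s * a) (X z) = X z := by
  obtain ⟨s, σ, hσ⟩ := exists_std_conj R hG a
  have h1 : σ = 1 := hM σ fun i j => Diag.matrix (R := R) hσ.diag i j
  subst h1
  refine ⟨s, fun z hz => ?_⟩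
  ext x
  have h2 := Diag.root_comp R hσ.diag (fun _ _ => rfl) hz ((MulAut.conj s * a)⁻¹ x)
  rw [MulAut.apply_inv_self] at h2
  rw [mem_am]
  exact h2.symm

variable {θ : I → ℤ} (L : LR R θ) (hdom : ∀ i, 0 ≤ cpr cs h (sr i) θ)

include L

theorem exists_am (hfr : ∀ a : MulAut S, ∃ s : S, ∀ z, IsRoot cs h z → am (MulAut.conj s * a) (X z) = X z)
    (a : MulAut S) : ∃ g : S, am a (X θ) = cj g (X θ) := by
  obtain ⟨s, hs⟩ := hfr a
  have h1 := hs θ L.root
  rw [am_mul, am_conj] at h1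
  refine ⟨s⁻¹, ?_⟩
  conv_rhs => rw [← h1]
  rw [cj_inv_cj]

include hdom

/-- **the automorphisms preserve the orbitals** -/
theorem exists_orbital (hG : GG cs h T X = ⊤)
    (hfr : ∀ a : MulAut S, ∃ s : S, ∀ z, IsRoot cs h z → am (MulAut.conj s * a) (X z) = X z)
    (a : MulAut S) (g₁ g₂ : S) : ∃ g : S, cj g (cj g₁ (X θ)) = am a (cj g₁ (X θ)) ∧
      cj g (cj g₂ (X θ)) = am a (cj g₂ (X θ)) := by
  obtain ⟨v, b₁, hb₁, k, hk, b₂, hb₂, e⟩ := (mem_GG R).1 (show g₁⁻¹ * g₂ ∈ GG cs h T X by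
    rw [hG]; exact Subgroup.mem_top _)
  have hB : RGD.B cs h T X ≤ Subgroup.normalizer (X θ : Set S) := B_le_PJ.trans (PJ_le_norm R L hdom)
  have h1 : cj g₂ (X θ) = cj (g₁ * b₁) (X (rep cs h v θ)) := by
    have : g₂ = g₁ * (b₁ * k * b₂) := by rw [← e]; group
    rw [this, cj_mul, cj_mul, mem_normalizer_iff_cj.1 (hB hb₂), cj_mul, R.conj_rp hk L.root, ← cj_mul]
  have h2 : cj g₁ (X θ) = cj (g₁ * b₁) (X θ) := by
    rw [cj_mul, mem_normalizer_iff_cj.1 (hB hb₁)]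
  obtain ⟨s, hs⟩ := hfr a
  have key : ∀ z, IsRoot cs h z → cj (a (g₁ * b₁) * s⁻¹ * (g₁ * b₁)⁻¹) (cj (g₁ * b₁) (X z)) =
      am a (cj (g₁ * b₁) (X z)) := by
    intro z hz
    have h3 := hs z hz
    rw [am_mul, am_conj] at h3
    rw [← cj_mul, inv_mul_cancel_right, am_cj, cj_mul]
    congr 1
    conv_lhs => rw [← h3]
    rw [cj_inv_cj]
  refine ⟨a (g₁ * b₁) * s⁻¹ * (g₁ * b₁)⁻¹, ?_, ?_⟩
  · rw [h2]
    exact key _ L.root
  · rw [h1]
    exact key _ (L.act v).root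

/-- **Lemma B for automorphisms.** -/
theorem not_conj_aut [Finite S] [Fact r.Prime] (hG : GG cs h T X = ⊤) (hs : SL cs h)
    (hfr : ∀ a : MulAut S, ∃ s : S, ∀ z, IsRoot cs h z → am (MulAut.conj s * a) (X z) = X z)
    {p : ℕ} {J0 : Set I}
    (hK : ∀ K : Set I, K ⊆ J0 → K ≠ J0 → ¬ p ∣ Nat.card (PJ cs h T X K))
    (hJ0 : ∀ i ∈ J0, cpr cs h (sr i) θ = 0)
    (h3 : ∀ w : W, (∀ i ∈ J0, cpr cs h (sr i) (rep cs h w θ) = 0) →
      rep cs h w θ = θ ∨ rep cs h w θ = -θ ∨ cpr cs h (rep cs h w θ) θ = 0)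
    {x : S} (hx : x ∈ RGD.Sup X (RootsJ cs h J0)) (hxp : orderOf x = p) {β r0 : I → ℤ} {u u' : W}
    (hβ : rep cs h u θ = β) (hr0 : rep cs h u' θ = r0) (ho : ∀ i ∈ J0, cpr cs h (sr i) r0 = 0)
    (hc0 : cpr cs h r0 β = -1) {c : MulAut S} (hc : c x = x) : am c (X θ) ≠ X β := by
  intro hcβ
  have Lβ : LR R β := hβ ▸ L.act u
  have L0 : LR R r0 := hr0 ▸ L.act u'
  have hxP : x ∈ PJ cs h T X J0 := by
    refine LJ_le_PJ (RGD.Sup_le (fun z hz => X_le_LJ hz) hx)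
  -- `y = c⁻¹ (X r0)`
  obtain ⟨k, hk⟩ := exists_rp cs R.nsys u'
  obtain ⟨s, hsr⟩ := hfr c⁻¹
  have hy : am c⁻¹ (X r0) = cj (s⁻¹ * k) (X θ) := by
    have h1 := hsr r0 L0.root
    rw [am_mul, am_conj] at h1
    rw [cj_mul, R.conj_rp hk L.root, hr0]
    conv_rhs => rw [← h1]
    rw [cj_inv_cj]
  have hxy : cj x (cj (s⁻¹ * k) (X θ)) = cj (s⁻¹ * k) (X θ) := by
    rw [← hy]
    have h2 : (c⁻¹ : MulAut S) x = x := by
      conv_lhs => rw [← hc]
      exact MulAut.inv_apply_self _ _ _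
    have h4 : cj x (am c⁻¹ (X r0)) = am c⁻¹ (cj x (X r0)) := by rw [am_cj, h2]
    rw [h4, cj_eq_of_comm R (mem_norm_of_orth R L0 ho hx)]
  obtain ⟨h0, hh0, w, hw, he⟩ := fix_orbit R L hdom hG hs hK hxP hxp hxy
  rw [← hy] at he
  have hJsub : J0 ⊆ {i | cpr cs h (sr i) θ = 0} := fun i hi => hJ0 i hi
  have hh0n : cj h0 (X θ) = X θ := by
    rw [← mem_normalizer_iff_cj]
    refine PJ_le_norm R L hdom ?_
    have h1 : PJ cs h T X J0 ≤ PJ cs h T X {i | cpr cs h (sr i) θ = 0} := by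
      refine sup_le ((LJ_mono hJsub).trans LJ_le_PJ) ((VJ_le_B J0).trans B_le_PJ)
    exact h1 hh0
  have hd1 : am (c * MulAut.conj h0) (X θ) = X β := by rw [am_mul, am_conj, hh0n, hcβ]
  have hd2 : am (c * MulAut.conj h0) (X (rep cs h w θ)) = X r0 := by
    rw [am_mul, am_conj, ← he, ← am_mul, mul_inv_cancel, am_one]
  generalize c * MulAut.conj h0 = d at hd1 hd2
  have hne : r0 ≠ β := by
    rintro rfl
    rw [cpr_self cs h Lβ.root] at hc0
    omega
  rcases h3 w hw with h4 | h4 | h4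
  · rw [h4, hd1] at hd2
    exact hne (X_injective R Lβ.root L0.root hd2).symm
  · rw [h4] at hd2
    apply not_isPGroup R L
    have h5 : am d (X θ ⊔ X (-θ)) = X β ⊔ X r0 := by
      rw [← hd1, ← hd2]
      exact Subgroup.map_sup _ _ _
    have h6 : IsPGroup r ↥(X β ⊔ X r0) := by
      refine isPGroup_sup R hs Lβ.root L0.root ?_
      rintro rfl
      rw [cpr_neg_right cs h r0 L0.root, cpr_self cs h L0.root] at hc0
      omega
    have h7 : X θ ⊔ X (-θ) = am d⁻¹ (X β ⊔ X r0) := by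
      rw [← h5, ← am_mul, inv_mul_cancel, am_one]
    rw [h7]
    exact h6.map _
  · -- commuting
    have Lw := L.act w
    obtain ⟨v, hv, hv1⟩ := (Subgroup.bot_or_exists_ne_one (X β)).resolve_left (X_ne_bot R Lβ.root)
    have h5 : X r0 ≤ PS T X (Ge cs h β) := by
      intro z hz
      refine Lβ.le_PS_of_comm (by rw [hG]; exact Subgroup.mem_top z) hv hv1 ?_
      have hz' : d⁻¹ z ∈ X (rep cs h w θ) := by
        rw [← mem_am, hd2]
        exact hz
      have hv' : d⁻¹ v ∈ X θ := by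
        rw [← mem_am, hd1]
        exact hv
      have h6 := congrArg d (L.comm _ Lw.root h4.ge _ hz' _ hv')
      rwa [map_mul, map_mul, MulAut.apply_inv_self, MulAut.apply_inv_self] at h6
    have h6 := (X_le_half_iff R (ell cs h Lβ.root) L0.root).1 h5
    have h7 : 0 ≤ cpr cs h r0 β := h6
    omega

/-- **the count for groups of automorphisms** -/
theorem cnt_ne_aut [Finite S] [Fact r.Prime] (hG : GG cs h T X = ⊤) (hs : SL cs h)
    (hfr : ∀ a : MulAut S, ∃ s : S, ∀ z, IsRoot cs h z → am (MulAut.conj s * a) (X z) = X z)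
    {p : ℕ} [Fact p.Prime] {J0 D : Set I}
    (hK : ∀ K : Set I, K ⊆ J0 → K ≠ J0 → ¬ p ∣ Nat.card (PJ cs h T X K))
    (hJD : J0 ⊆ D) (hD : ∀ i ∈ D, cpr cs h (sr i) θ = 0)
    (h3 : ∀ w : W, (∀ i ∈ J0, cpr cs h (sr i) (rep cs h w θ) = 0) →
      rep cs h w θ = θ ∨ rep cs h w θ = -θ ∨ cpr cs h (rep cs h w θ) θ = 0)
    (P : Sylow p S) (hP : (P : Subgroup S) ≤ RGD.Sup X (RootsJ cs h D)) {x : S} (hx : x ∈ (P : Subgroup S))
    (hx0 : x ∈ RGD.Sup X (RootsJ cs h J0)) (hxp : orderOf x = p) {β r0 : I → ℤ} {u u' : W}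
    (hβ : rep cs h u θ = β) (hr0 : rep cs h u' θ = r0) (ho : ∀ i ∈ J0, cpr cs h (sr i) r0 = 0)
    (hc0 : cpr cs h r0 β = -1) (hβD : ∀ i ∈ D, cpr cs h (sr i) β = 0)
    (htr : ∀ z ∈ RootsJ cs h {i | cpr cs h (sr i) θ = 0}, ∃ w ∈ WJ cs {i | cpr cs h (sr i) θ = 0}, rep cs h w β = z)
    {Y : Type*} [Group Y] [Finite Y] [MulAction Y (Cls (X θ))] (φ : Y → MulAut S)
    (hφ : ∀ (y : Y) (K : Cls (X θ)), (y • K).1 = am (φ y) K.1) (f : S →* Y) (hf : ∀ s, φ (f s) = MulAut.conj s)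
    (hφf : ∀ y s, f (φ y s) = y * f s * y⁻¹)
    (hinj : Function.Injective f) (hidx : ¬ p ∣ f.range.index) :
    ∃ P' : Sylow p Y, ¬ H145.BR.cnt (P' : Subgroup Y) (Cls (X θ)) ≡ 1 [MOD p] := by
  have hidx' : ¬ p ∣ ((P : Subgroup S).map f).index := by
    rw [Subgroup.index_map, (MonoidHom.ker_eq_bot_iff f).2 hinj, sup_bot_eq, (Fact.out : p.Prime).dvd_mul, not_or]
    exact ⟨P.not_dvd_index, hidx⟩
  let P' : Sylow p Y := (P.2.map f).toSylow hidx'
  have hP' : ∀ y, y ∈ (P' : Subgroup Y) ↔ ∃ a ∈ (P : Subgroup S), f a = y := fun y => Iff.rfl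
  refine ⟨P', ?_⟩
  obtain ⟨k, hk⟩ := exists_rp cs R.nsys u
  have hkβ : cj k (X θ) = X β := by rw [R.conj_rp hk L.root, hβ]
  have Lβ : LR R β := hβ ▸ L.act u
  have hsm : ∀ (a : S) (K : Cls (X θ)), (f a • K).1 = cj a K.1 := by
    intro a K
    rw [hφ, hf]
    rfl
  have htrans : MulAction.IsPretransitive Y (Cls (X θ)) := by
    constructor
    rintro ⟨K, g, hg⟩ ⟨K', g', hg'⟩
    refine ⟨f (g' * g⁻¹), Subtype.ext ?_⟩
    rw [hsm]
    show cj (g' * g⁻¹) K = K'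
    rw [hg, hg', cj_mul, cj_inv_cj]
  refine cnt_of_two P' (x0 := (⟨X θ, 1, (cj_one _).symm⟩ : Cls (X θ))) (y0 := (⟨X β, k, hkβ.symm⟩ : Cls (X θ)))
    ?_ ?_ ?_ ?_
  · rintro _ ⟨a, ha, rfl⟩
    apply Subtype.ext
    rw [hsm]
    exact cj_eq_of_comm R (mem_norm_of_orth R L hD (hP ha))
  · rintro _ ⟨a, ha, rfl⟩
    apply Subtype.ext
    rw [hsm]
    exact cj_eq_of_comm R (mem_norm_of_orth R Lβ hβD (hP ha))
  · intro c hc h1
    have h2 := congrArg Subtype.val h1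
    rw [hφ] at h2
    refine not_conj_aut R L hdom hG hs hfr hK (fun i hi => hD i (hJD hi)) h3 hx0 hxp hβ hr0 ho hc0 (c := φ c) ?_ h2
    apply hinj
    rw [hφf]
    have h4 := (Subgroup.mem_centralizer_iff.1 hc) (f x) ⟨x, hx, rfl⟩
    rw [← h4, mul_inv_cancel_right]
  · rintro ⟨K, g, hg⟩ hy
    have hfix : ∀ a ∈ (P : Subgroup S), cj a (cj g (X θ)) = cj g (X θ) := by
      intro a ha
      have h1 := congrArg Subtype.val (hy (f a) ⟨a, ha, rfl⟩)
      rw [hsm] at h1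
      rw [← hg]
      exact h1
    rcases fix_two R L hdom hG hs hK hJD hD h3 hP hx hx0 hxp Lβ.root htr hfix with ⟨c, hc, h1⟩ | ⟨b, hb, h1⟩
    · left
      refine ⟨f c, ?_, Subtype.ext ?_⟩
      · rw [Subgroup.mem_centralizer_iff]
        rintro _ ⟨a, ha, rfl⟩
        rw [← map_mul, ← map_mul, (Subgroup.mem_centralizer_iff.1 hc) a ha]
      · rw [hsm]
        exact h1.trans hg.symm
    · right
      refine ⟨f b, Subtype.ext ?_, Subtype.ext ?_⟩
      · rw [hsm]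
        exact hb
      · rw [hsm]
        exact h1.trans hg.symm

end Cfsg.Agent.H408.CY
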