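import Cfsg.Agent.H422.RatB.E7
import Cfsg.Agent.H408.CY.LrgCls

/-!
# `E7(q)`, `p ∣ q ^ 2 + 1` : the count for groups of automorphisms (helper408, S4829)

The proof of H422/RatB/E7.lean with `cnt_ne_aut` in place of `cnt_ne`.
-/

set_option autoImplicit false
set_option linter.unusedSectionVars false
set_option maxRecDepth 100000

namespace Cfsg.Agent.H408.CY

open CoxeterSystem Cfsg.Agent.ChevalleyStructure.CoxeterGeom Cfsg.Agent.Tits.Roots Cfsg.Agent.Tits.Core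
  Cfsg.Agent.Tits.RootComb Cfsg.Agent.Tits.Exchange Cfsg.Agent.Nodes.Reps Cfsg.Agent.Nodes.BNOf
  Cfsg.Agent.Nodes.StabComb Cfsg.Agent.Nodes.Bruhat Cfsg.Agent.Nodes.LeviDec Cfsg.Agent.Nodes.Coroot
  Cfsg.Agent.KFacts.RgdPar Cfsg.Agent.KFacts.RgdSL Cfsg.Agent.KFacts.RgdTI
  Cfsg.Agent.H35.Poin Cfsg.Agent.H35.PoinNum Cfsg.Agent.H116.RatB0
  Cfsg.Agent.H35.ExcIdx Cfsg.Agent.ChevalleyStructure.CoxeterGeomTypes Cfsg.Lie
open Cfsg.Agent.Nodes.RGDChev Cfsg.Agent.ChevalleyStructure.NPerm Cfsg.Agent.H422.RatB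

universe u

variable (K : Type u) [Field K] [Fintype K]

/-- the frame of `E7(q)` -/
def FrE7 : Prop := ∀ a : MulAut ↥(chevE7.group K), ∃ s : ↥(chevE7.group K), ∀ z,
  IsRoot CoxeterMatrix.E₇.toCoxeterSystem hpE7.isCartan z →
    am (MulAut.conj s * a) (XX chevE7 7 K z) = XX chevE7 7 K z

/-- **the count** -/
theorem cnt_E7_aut {p : ℕ} [hp' : Fact p.Prime] (h2 : p ≠ 2) (hd : p ∣ Fintype.card K ^ 2 + 1) (hfr : FrE7 K)
    {Y : Type*} [Group Y] [Finite Y] [MulAction Y (Cls (XX chevE7 7 K th7))] (φ : Y → MulAut ↥(chevE7.group K))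
    (hφ : ∀ (y : Y) (C : Cls (XX chevE7 7 K th7)), (y • C).1 = am (φ y) C.1) (e : ↥(chevE7.group K) →* Y)
    (he : ∀ s, φ (e s) = MulAut.conj s) (hφe : ∀ y s, e (φ y s) = y * e s * y⁻¹)
    (hinj : Function.Injective e) (hide : ¬ p ∣ e.range.index) :
    ∃ P' : Sylow p Y, ¬ H145.BR.cnt (P' : Subgroup Y) (Cls (XX chevE7 7 K th7)) ≡ 1 [MOD p] := by
  obtain ⟨r, f, _, hr, hf, hK⟩ := exists_pow K
  have : Fact r.Prime := ⟨hr⟩
  rw [hK] at hd
  set q := r ^ f with hqdef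
  have hq2 : 2 ≤ q := two_le hr hf
  have hq : 1 ≤ q := by omega
  set cs := CoxeterMatrix.E₇.toCoxeterSystem
  have hfin := finite_W hpE7 cs
  have hR := rgd (K := K) hpE7 cs r
  have hc : ∀ i, Nat.card (XX chevE7 7 K (sr i)) = q := fun i => by
    rw [card_XX hpE7 K cs (isRoot_sr _ _ i), Nat.card_eq_fintype_card, hK]
  have hG := GG_eq_top hpE7 K cs
  have nd := not_dvd_sub h2 hq hd
  have hpr : p ≠ r := by
    rintro rfl
    have h3 : p ∣ q ^ 2 := dvd_pow (dvd_pow_self p hf) two_ne_zero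
    exact hp'.out.one_lt.ne' (Nat.dvd_one.1 ((Nat.dvd_add_right h3).1 hd))
  have hnd1 : ¬ p ∣ (q - 1) ^ 7 := by
    intro h3
    have h4 := nd 1 (by simp)
    rw [pow_one] at h4
    exact h4 (hp'.out.dvd_of_dvd_pow h3)
  -- the torus
  have hg : Nat.gcd 2 (q - 1) ∣ q - 1 := Nat.gcd_dvd_right _ _
  have hTc : Nat.gcd 2 (q - 1) * Nat.card (chevE7.diagonalSubgroup K) = (q - 1) ^ 7 := by
    rw [← hK]
    exact Cfsg.Agent.S1035.result rfl (chevE7, Nat.gcd 2 (Fintype.card K - 1)) (by simp)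
  have hT1 : Nat.card (TT chevE7 K) = Nat.card (chevE7.diagonalSubgroup K) :=
    Nat.card_congr (Subgroup.subgroupOfEquivOfLe
      (Cfsg.Agent.ChevalleyStructure.Elts.diagonal_le_group hpE7.inList K)).toEquiv
  have hpT : ¬ p ∣ Nat.card (TT chevE7 K) := by
    intro h3
    apply hnd1
    rw [← hTc, ← hT1]
    exact h3.mul_left _
  have hpB : ¬ p ∣ Nat.card ↥(RGD.B cs hpE7.isCartan (TT chevE7 K) (XX chevE7 7 K)) := by
    rw [card_B' hR, hp'.out.dvd_mul, not_or]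
    refine ⟨fun h3 => ?_, hpT⟩
    obtain ⟨m, hm⟩ := IsPGroup.iff_card.1 hR.isPGroup_Upos
    rw [hm] at h3
    exact hpr ((Nat.prime_dvd_prime_iff_eq hp'.out hr).1 (hp'.out.dvd_of_dvd_pow h3))
  -- the parabolic subgroups without `p`
  have small : ∀ (J : List (Fin 7)) (D : List ℕ),
      ParOrd cs hpE7.isCartan (TT chevE7 K) (XX chevE7 7 K) q 7 J D → (∀ d ∈ D, ¬ p ∣ q ^ d - 1) →
      ¬ p ∣ Nat.card (PJ cs hpE7.isCartan (TT chevE7 K) (XX chevE7 7 K) {j | j ∈ J}) := by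
    rintro J D ⟨N, h3, h4⟩ hD
    rw [h3, hp'.out.dvd_mul, not_or]
    refine ⟨fun h5 => not_dvd_prod hD ?_, hpB⟩
    rw [← h4]
    exact h5.mul_right _
  have o13 : ParOrd cs hpE7.isCartan (TT chevE7 K) (XX chevE7 7 K) q 7 [1, 3] [1, 1, 1, 1, 1, 2, 3] :=
    ParOrd.path (ParOrd.nil hR) hR hq2 hc (C := [1, 3]) (i0 := 1) (by constructor <;> decide +kernel) (by decide)
  have o23 : ParOrd cs hpE7.isCartan (TT chevE7 K) (XX chevE7 7 K) q 7 [2, 3] [1, 1, 1, 1, 1, 2, 3] :=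
    ParOrd.path (ParOrd.nil hR) hR hq2 hc (C := [2, 3]) (i0 := 1) (by constructor <;> decide +kernel) (by decide)
  have o2 : ParOrd cs hpE7.isCartan (TT chevE7 K) (XX chevE7 7 K) q 7 [2] [1, 1, 1, 1, 1, 1, 2] :=
    ParOrd.path (ParOrd.nil hR) hR hq2 hc (C := [2]) (i0 := 1) (by constructor <;> decide +kernel) (by decide)
  have o12 : ParOrd cs hpE7.isCartan (TT chevE7 K) (XX chevE7 7 K) q 7 [1, 2] [1, 1, 1, 1, 1, 2, 2] :=
    ParOrd.path o2 hR hq2 hc (C := [1]) (i0 := 1) (by constructor <;> decide +kernel) (by decide)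
  have nd' : ∀ d ∈ [1, 1, 1, 1, 1, 2, 3], ¬ p ∣ q ^ d - 1 := fun d hd' => nd d (by
    simp only [List.mem_cons, List.not_mem_nil, or_false] at hd' ⊢; omega)
  have nd'' : ∀ d ∈ [1, 1, 1, 1, 1, 2, 2], ¬ p ∣ q ^ d - 1 := fun d hd' => nd d (by
    simp only [List.mem_cons, List.not_mem_nil, or_false] at hd' ⊢; omega)
  have hKJ : ∀ K' : Set (Fin 7), K' ⊆ {1, 2, 3} → K' ≠ {1, 2, 3} →
      ¬ p ∣ Nat.card (PJ cs hpE7.isCartan (TT chevE7 K) (XX chevE7 7 K) K') := by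
    intro K' h3 h4
    have key : ∀ J : List (Fin 7), K' ⊆ {j | j ∈ J} →
        ¬ p ∣ Nat.card (PJ cs hpE7.isCartan (TT chevE7 K) (XX chevE7 7 K) {j | j ∈ J}) →
        ¬ p ∣ Nat.card (PJ cs hpE7.isCartan (TT chevE7 K) (XX chevE7 7 K) K') := by
      intro J h5 h6 h7
      exact h6 (h7.trans (Subgroup.card_dvd_of_le
        (sup_le ((LJ_mono h5).trans LJ_le_PJ) ((VJ_le_B K').trans B_le_PJ))))
    have h5 : ∃ i ∈ ({1, 2, 3} : Set (Fin 7)), i ∉ K' := by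
      by_contra hcon
      push Not at hcon
      exact h4 (Set.Subset.antisymm h3 hcon)
    obtain ⟨i, hi, hi'⟩ := h5
    simp only [Set.mem_insert_iff, Set.mem_singleton_iff] at hi
    have h6 : ∀ j ∈ K', (j = 1 ∨ j = 2 ∨ j = 3) ∧ j ≠ i := fun j hj =>
      ⟨by simpa using h3 hj, fun e => hi' (e ▸ hj)⟩
    rcases hi with rfl | rfl | rfl
    · refine key [2, 3] (fun j hj => ?_) (small _ _ o23 nd')
      obtain ⟨h7 | h7 | h7, h8⟩ := h6 j hj
      · exact absurd h7 h8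
      · simp [h7]
      · simp [h7]
    · refine key [1, 3] (fun j hj => ?_) (small _ _ o13 nd')
      obtain ⟨h7 | h7 | h7, h8⟩ := h6 j hj
      · simp [h7]
      · exact absurd h7 h8
      · simp [h7]
    · refine key [1, 2] (fun j hj => ?_) (small _ _ o12 nd'')
      obtain ⟨h7 | h7 | h7, h8⟩ := h6 j hj
      · simp [h7]
      · simp [h7]
      · exact absurd h7 h8
  have e123 : ({j | j ∈ ([1, 2, 3] : List (Fin 7))} : Set (Fin 7)) = {1, 2, 3} := by ext j; simp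
  have e1234 : ({j | j ∈ ([1, 2, 3, 4] : List (Fin 7))} : Set (Fin 7)) = {1, 2, 3, 4} := by ext j; simp
  have hdvd : p ∣ Nat.card (PJ cs hpE7.isCartan (TT chevE7 K) (XX chevE7 7 K) {1, 2, 3}) := by
    obtain ⟨N, h3, h4⟩ := oE7_123 hR hq2 hc
    rw [← e123, h3]
    refine Dvd.dvd.mul_right ?_ _
    have h5 : p ∣ N * (q - 1) ^ 7 := by
      rw [h4]
      have h6 : p ∣ q ^ 4 - 1 := by
        rw [← ZMod.natCast_eq_zero_iff, cast_pow_sub hq]
        linear_combination ((q : ZMod p) ^ 2 - 1) * sq_eq hd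
      simp only [pr_cons]
      exact h6.mul_right _ |>.mul_left _ |>.mul_left _ |>.mul_left _ |>.mul_left _ |>.mul_left _ |>.mul_left _
    exact (hp'.out.dvd_mul.1 h5).resolve_right hnd1
  have hidx : ¬ p ∣ (PJ cs hpE7.isCartan (TT chevE7 K) (XX chevE7 7 K) {1, 2, 3, 4}).index := by
    rw [← e1234]
    refine not_dvd_idx h2 hd hq2 (idx_of_parOrd hpE7 K hr hf hK cs hg (by rw [hTc]; rfl)
      (dS := [2, 6, 8, 10, 12, 14, 18]) (by decide) ⟨f * 63, ?_⟩ (oE7_1234 hR hq2 hc))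
    have h3 := Cfsg.Agent.S1064.result hK
    rw [pow_mul]
    simp only [pr_cons, pr_nil]
    rw [h3]
    ring
  obtain ⟨P, x, hP, hxP, hx0, hxp⟩ := exists_sylow_le hR hpr hpT (J0 := {1, 2, 3}) (D := {1, 2, 3, 4})
    (by intro j hj; simp only [Set.mem_insert_iff, Set.mem_singleton_iff] at hj ⊢; tauto) hidx hdvd
  -- the root groups
  have L : LR hR th7 := by
    refine LR.of_SL hR (sl7 cs) (root_th7 cs) (isRoot_sr cs hpE7.isCartan 0) ?_
    rw [← sl7 cs _ _ (isRoot_sr cs hpE7.isCartan 0) (root_th7 cs), cpr_sr_th7]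
    rfl
  -- the simple roots are conjugate
  have hM : ∀ i : Fin 7, ∃ w ∈ WJ cs ({j | j ≠ 0} : Set (Fin 7)), i ≠ 0 → rep cs hpE7.isCartan w (sr 6) = sr i := by
    have s1 : ∀ i j : Fin 7, i ≠ 0 → j ≠ 0 → cs.simple i * cs.simple j ∈ WJ cs ({j | j ≠ 0} : Set (Fin 7)) :=
      fun i j hi hj => mul_mem (simple_mem_WJ cs hi) (simple_mem_WJ cs hj)
    have step : ∀ i j : Fin 7, i ≠ 0 → j ≠ 0 → CoxeterMatrix.E₇ i j = 3 →
        (∃ w ∈ WJ cs ({j | j ≠ 0} : Set (Fin 7)), rep cs hpE7.isCartan w (sr 6) = sr i) →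
        ∃ w ∈ WJ cs ({j | j ≠ 0} : Set (Fin 7)), rep cs hpE7.isCartan w (sr 6) = sr j := by
      rintro i j hi hj hij ⟨w, hw, e⟩
      exact ⟨_, mul_mem (s1 i j hi hj) hw, by rw [rep_mul_apply, e, sr_step cs hij]⟩
    have t6 : ∃ w ∈ WJ cs ({j | j ≠ 0} : Set (Fin 7)), rep cs hpE7.isCartan w (sr 6) = sr 6 :=
      ⟨1, one_mem _, by rw [map_one]; rfl⟩
    have t5 := step 6 5 (by decide) (by decide) (by decide) t6
    have t4 := step 5 4 (by decide) (by decide) (by decide) t5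
    have t3 := step 4 3 (by decide) (by decide) (by decide) t4
    have t2 := step 3 2 (by decide) (by decide) (by decide) t3
    have t1 := step 3 1 (by decide) (by decide) (by decide) t3
    intro i
    fin_cases i
    · exact ⟨1, one_mem _, fun h => absurd rfl h⟩
    · obtain ⟨w, hw, e⟩ := t1; exact ⟨w, hw, fun _ => e⟩
    · obtain ⟨w, hw, e⟩ := t2; exact ⟨w, hw, fun _ => e⟩
    · obtain ⟨w, hw, e⟩ := t3; exact ⟨w, hw, fun _ => e⟩
    · obtain ⟨w, hw, e⟩ := t4; exact ⟨w, hw, fun _ => e⟩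
    · obtain ⟨w, hw, e⟩ := t5; exact ⟨w, hw, fun _ => e⟩
    · obtain ⟨w, hw, e⟩ := t6; exact ⟨w, hw, fun _ => e⟩
  have h60 : ∃ w, rep cs hpE7.isCartan w (sr 6) = sr 0 := by
    obtain ⟨w, -, e⟩ := hM 2
    exact ⟨(cs.simple 2 * cs.simple 0) * w, by rw [rep_mul_apply, e (by decide), sr_step cs (by decide)]⟩
  have hall : ∀ i : Fin 7, ∃ w, rep cs hpE7.isCartan w (sr 6) = sr i := by
    intro i
    by_cases hi : i = 0
    · subst hi; exact h60
    · obtain ⟨w, -, e⟩ := hM i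
      exact ⟨w, e hi⟩
  obtain ⟨w0, i0, hw0⟩ := root_th7 cs
  obtain ⟨w1, hw1⟩ := hall i0
  have hth : rep cs hpE7.isCartan (w0 * w1) (sr 6) = th7 := by rw [rep_mul_apply, hw1]; exact hw0.symm
  obtain ⟨w5, hw5⟩ := hall 5
  have h6 : rep cs hpE7.isCartan (w0 * w1)⁻¹ th7 = sr 6 := by rw [← hth, rep_inv_apply]
  have h5 : rep cs hpE7.isCartan (w5 * (w0 * w1)⁻¹) th7 = sr 5 := by rw [rep_mul_apply, h6, hw5]
  have hcp : ∀ i j : Fin 7, cpr cs hpE7.isCartan (sr i) (sr j) = cartanOf chevE7 7 j i := by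
    intro i j
    rw [cpr_sr, sr, pairing_single, mul_one]
  exact cnt_ne_aut hR L (dom_th7 cs) hG (sl7 cs) hfr hKJ (J0 := {1, 2, 3}) (D := {1, 2, 3, 4})
    (by intro j hj; simp only [Set.mem_insert_iff, Set.mem_singleton_iff] at hj ⊢; tauto)
    (fun i hi => by
      rw [cpr_sr_th7, if_neg]
      rintro rfl
      simp only [Set.mem_insert_iff, Set.mem_singleton_iff] at hi
      revert hi
      decide)
    (fun w hw => h3_th7 cs ((root_th7 cs).act w) hw) P hP hxP hx0 hxp (β := sr 6) (r0 := sr 5) h6 h5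
    (fun i hi => by
      simp only [Set.mem_insert_iff, Set.mem_singleton_iff] at hi
      rw [hcp]
      rcases hi with rfl | rfl | rfl <;> decide +kernel)
    (by rw [hcp]; decide +kernel)
    (fun i hi => by
      simp only [Set.mem_insert_iff, Set.mem_singleton_iff] at hi
      rw [hcp]
      rcases hi with rfl | rfl | rfl | rfl <;> decide +kernel)
    (by
      rw [zero_th7]
      intro z hz
      obtain ⟨w, hw, j, hj, e⟩ := exists_of_mem_RootsJ hz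
      obtain ⟨w', hw', e'⟩ := hM j
      exact ⟨w * w', mul_mem hw hw', by rw [rep_mul_apply, e' hj, e]⟩)
    φ hφ e he hφe hinj hide

end Cfsg.Agent.H408.CY
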